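import Mathlib

/-!
# Box (X) of `F₄(q)` (S2452): abstract part (helper351)

* `index_pow` : `Kˣ`-invariant subgroups of a quotient of `K ^ n` have index a power of `|K|`;
* `relIndex_pow` : the same in `Q / Z`;
* `CW Q Z m` : `{w ∈ Q | [w, m] ∈ Z}`, `CW_mul`, `CW_conj`, `relIndex_CW_le`.
-/

set_option autoImplicit false

namespace Cfsg.Agent.H351.FR

open Subgroup

section Comm

variable {A : Type*} [CommGroup A] {K : Type*} [Field K] [Finite K] {ι : Type*} [Fintype ι] [DecidableEq ι]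

theorem index_pow (φ : ι → Multiplicative K →* A) (hφ : (⊤ : Subgroup A) ≤ ⨆ i, (φ i).range) (ψ : Kˣ → A →* A)
    (hψ : ∀ (μ : Kˣ) i a, ψ μ (φ i (Multiplicative.ofAdd a)) = φ i (Multiplicative.ofAdd ((μ : K) * a)))
    {D : Subgroup A} (hD : ∀ (μ : Kˣ), ∀ w ∈ D, ψ μ w ∈ D) : ∃ k, D.index = Nat.card K ^ k := by
  classical
  let f : (ι → Multiplicative K) →* A := ∏ i, (φ i).comp (Pi.evalMonoidHom (fun _ => Multiplicative K) i)
  have hf : ∀ c, f c = ∏ i, φ i (c i) := by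
    intro c
    simp only [f, MonoidHom.finsetProd_apply, MonoidHom.comp_apply, Pi.evalMonoidHom_apply]
  have hs : Function.Surjective f := by
    rw [← MonoidHom.range_eq_top, eq_top_iff]
    refine le_trans hφ (iSup_le fun i => ?_)
    rintro _ ⟨a, rfl⟩
    refine ⟨Pi.mulSingle i a, ?_⟩
    rw [hf, Finset.prod_eq_single i]
    · rw [Pi.mulSingle_eq_same]
    · intro j _ hj
      rw [Pi.mulSingle_eq_of_ne hj, map_one]
    · intro h
      exact absurd (Finset.mem_univ i) h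
  have hsc : ∀ (μ : Kˣ) (c : ι → K), f (fun i => Multiplicative.ofAdd ((μ : K) * c i)) =
      ψ μ (f fun i => Multiplicative.ofAdd (c i)) := by
    intro μ c
    rw [hf, hf, map_prod]
    exact Finset.prod_congr rfl fun i _ => (hψ μ i (c i)).symm
  let SM : Submodule K (ι → K) :=
    { carrier := {c | f (fun i => Multiplicative.ofAdd (c i)) ∈ D}
      add_mem' := by
        intro a b ha hb
        have h1 : (fun i => Multiplicative.ofAdd ((a + b) i)) =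
            (fun i => Multiplicative.ofAdd (a i)) * fun i => Multiplicative.ofAdd (b i) := rfl
        show f _ ∈ D
        rw [h1, map_mul]
        exact D.mul_mem ha hb
      zero_mem' := by
        have h1 : (fun i => Multiplicative.ofAdd ((0 : ι → K) i)) = (1 : ι → Multiplicative K) := rfl
        show f _ ∈ D
        rw [h1, map_one]
        exact D.one_mem
      smul_mem' := by
        intro c v hv
        by_cases hc : c = 0
        · have h1 : (fun i => Multiplicative.ofAdd ((c • v) i)) = (1 : ι → Multiplicative K) := by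
            funext i
            rw [hc, zero_smul]
            rfl
          show f _ ∈ D
          rw [h1, map_one]
          exact D.one_mem
        · have h2 := hsc (Units.mk0 c hc) v
          rw [Units.val_mk0] at h2
          show f _ ∈ D
          have h1 : (fun i => Multiplicative.ofAdd ((c • v) i)) = fun i => Multiplicative.ofAdd (c * v i) := rfl
          rw [h1, h2]
          exact hD _ _ hv }
  have h1 : (D.comap f).index = D.index := D.index_comap_of_surjective hs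
  have h2 : Nat.card ↥(D.comap f) = Nat.card K ^ Module.finrank K SM := by
    have := Fintype.ofFinite K
    rw [← Module.natCard_eq_pow_finrank (K := K) (V := SM)]
    rfl
  have h3 := (D.comap f).index_mul_card
  rw [h1, h2] at h3
  have h4 : Nat.card (ι → Multiplicative K) = Nat.card K ^ Fintype.card ι := by
    rw [Nat.card_pi, Finset.prod_const, Finset.card_univ]
    rfl
  rw [h4] at h3
  have h5 : Module.finrank K SM ≤ Fintype.card ι := by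
    have := Submodule.finrank_le SM
    rwa [Module.finrank_fintype_fun_eq_card] at this
  refine ⟨Fintype.card ι - Module.finrank K SM, ?_⟩
  have h6 : 0 < Nat.card K ^ Module.finrank K SM := pow_pos Nat.card_pos _
  refine Nat.eq_of_mul_eq_mul_right h6 ?_
  rw [h3, ← pow_add, Nat.sub_add_cancel h5]

end Comm

variable {G : Type*} [Group G]

theorem relIndex_pow {K : Type*} [Field K] [Finite K] {ι : Type*} [Fintype ι] [DecidableEq ι] {Q Z C : Subgroup G}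
    (hZQ : Z ≤ Q) (hQQ : ∀ a ∈ Q, ∀ b ∈ Q, a * b * a⁻¹ * b⁻¹ ∈ Z) (hZ : ∀ w ∈ Q, ∀ z ∈ Z, w * z = z * w)
    (x : ι → K → G) (hx : ∀ i a, x i a ∈ Q) (hadd : ∀ i a b, x i (a + b) = x i a * x i b)
    (hgen : Q ≤ Z ⊔ ⨆ i, closure (Set.range (x i)))
    (t : Kˣ → G) (ht : ∀ (μ : Kˣ) i a, t μ * x i a * (t μ)⁻¹ = x i ((μ : K) * a))
    (htQ : ∀ μ, ∀ z ∈ Q, t μ * z * (t μ)⁻¹ ∈ Q) (htZ : ∀ μ, ∀ z ∈ Z, t μ * z * (t μ)⁻¹ ∈ Z)
    (hZC : Z ≤ C) (htC : ∀ μ, ∀ w ∈ C, t μ * w * (t μ)⁻¹ ∈ C) : ∃ k, C.relIndex Q = Nat.card K ^ k := by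
  classical
  have hn : (Z.subgroupOf Q).Normal := ⟨fun z hz w => by
    rw [mem_subgroupOf] at hz ⊢
    rw [coe_mul, coe_mul, coe_inv, hZ _ w.2 _ hz, mul_inv_cancel_right]
    exact hz⟩
  let _ : CommGroup (↥Q ⧸ Z.subgroupOf Q) :=
    { (inferInstance : Group (↥Q ⧸ Z.subgroupOf Q)) with
      mul_comm := by
        intro a b
        obtain ⟨a, rfl⟩ := QuotientGroup.mk_surjective a
        obtain ⟨b, rfl⟩ := QuotientGroup.mk_surjective b
        rw [← QuotientGroup.mk_mul, ← QuotientGroup.mk_mul, QuotientGroup.eq, mem_subgroupOf]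
        have h1 := hQQ _ (inv_mem b.2) _ (inv_mem a.2)
        have h2 : ((a * b)⁻¹ * (b * a) : ↥Q) = b⁻¹ * a⁻¹ * (b⁻¹)⁻¹ * (a⁻¹)⁻¹ := by group
        rw [h2]
        exact h1 }
  let π : ↥Q →* ↥Q ⧸ Z.subgroupOf Q := QuotientGroup.mk' (Z.subgroupOf Q)
  let e : ι → Multiplicative K →* ↥Q := fun i => MonoidHom.mk' (fun a => ⟨x i (Multiplicative.toAdd a), hx i _⟩)
    (fun a b => Subtype.ext (hadd i _ _))
  let cj : Kˣ → ↥Q →* ↥Q := fun μ => MonoidHom.mk' (fun w => ⟨t μ * (w : G) * (t μ)⁻¹, htQ μ w w.2⟩) (by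
    intro a b
    apply Subtype.ext
    show t μ * ((a * b : ↥Q) : G) * (t μ)⁻¹ = t μ * (a : G) * (t μ)⁻¹ * (t μ * (b : G) * (t μ)⁻¹)
    rw [coe_mul]
    group)
  have hcjZ : ∀ μ, Z.subgroupOf Q ≤ (Z.subgroupOf Q).comap (cj μ) := by
    intro μ z hz
    rw [mem_comap, mem_subgroupOf]
    exact htZ μ _ (mem_subgroupOf.1 hz)
  let ψ : Kˣ → (↥Q ⧸ Z.subgroupOf Q) →* (↥Q ⧸ Z.subgroupOf Q) := fun μ =>
    QuotientGroup.map (Z.subgroupOf Q) (Z.subgroupOf Q) (cj μ) (hcjZ μ)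
  have hψ : ∀ μ w, ψ μ (π w) = π (cj μ w) := fun μ w => rfl
  have hker : π.ker = Z.subgroupOf Q := QuotientGroup.ker_mk' _
  have hsurj : Function.Surjective π := QuotientGroup.mk'_surjective _
  have key := index_pow (K := K) (fun i => π.comp (e i)) ?_ ψ ?_ (D := (C.subgroupOf Q).map π) ?_
  · obtain ⟨k, hk⟩ := key
    refine ⟨k, ?_⟩
    rw [← hk]
    have h1 : ((C.subgroupOf Q).map π).index = (C.subgroupOf Q).index := by
      refine index_map_eq _ hsurj ?_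
      rw [hker]
      exact fun z hz => mem_subgroupOf.2 (hZC (mem_subgroupOf.1 hz))
    rw [h1]
    rfl
  · -- generation
    have h1 : Q ≤ ((⨆ i, (π.comp (e i)).range).comap π).map Q.subtype := by
      refine le_trans hgen (sup_le (fun z hz => ?_) (iSup_le fun i => ?_))
      · refine ⟨⟨z, hZQ hz⟩, SetLike.mem_coe.2 (mem_comap.2 ?_), rfl⟩
        have h2 : π ⟨z, hZQ hz⟩ = 1 := by
          rw [← MonoidHom.mem_ker, hker, mem_subgroupOf]
          exact hz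
        rw [h2]
        exact one_mem _
      · rw [closure_le]
        rintro _ ⟨a, rfl⟩
        refine ⟨⟨x i a, hx i a⟩, SetLike.mem_coe.2 (mem_comap.2 ?_), rfl⟩
        exact (le_iSup (fun i => (π.comp (e i)).range) i) ⟨Multiplicative.ofAdd a, rfl⟩
    intro w _
    obtain ⟨w, rfl⟩ := hsurj w
    obtain ⟨w', h2, h3⟩ := h1 w.2
    have h4 : w' = w := Subtype.ext h3
    rw [← h4]
    exact h2
  · intro μ i a
    rw [MonoidHom.comp_apply, hψ, MonoidHom.comp_apply]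
    congr 1
    exact Subtype.ext (ht μ i a)
  · rintro μ _ ⟨w, hw, rfl⟩
    rw [hψ]
    exact ⟨cj μ w, mem_subgroupOf.2 (htC μ _ (mem_subgroupOf.1 hw)), rfl⟩

/-! ### `CW` -/

/-- `{w ∈ Q | [w, m] ∈ Z}` -/
def CW {Q Z : Subgroup G} (hZ : ∀ w ∈ Q, ∀ z ∈ Z, w * z = z * w) (m : G) : Subgroup G where
  carrier := {w | w ∈ Q ∧ w * m * w⁻¹ * m⁻¹ ∈ Z}
  mul_mem' := by
    rintro a b ⟨ha, ha'⟩ ⟨hb, hb'⟩
    refine ⟨mul_mem ha hb, ?_⟩
    have h1 : a * b * m * (a * b)⁻¹ * m⁻¹ = (a * (b * m * b⁻¹ * m⁻¹)) * (m * a⁻¹ * m⁻¹) := by group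
    have h2 : b * m * b⁻¹ * m⁻¹ * a * (m * a⁻¹ * m⁻¹) = (b * m * b⁻¹ * m⁻¹) * (a * m * a⁻¹ * m⁻¹) := by group
    rw [h1, hZ a ha _ hb', h2]
    exact mul_mem hb' ha'
  one_mem' := ⟨one_mem _, by
    have : (1 : G) * m * 1⁻¹ * m⁻¹ = 1 := by group
    rw [this]; exact one_mem _⟩
  inv_mem' := by
    rintro a ⟨ha, ha'⟩
    refine ⟨inv_mem ha, ?_⟩
    have h1 : a⁻¹ * m * a⁻¹⁻¹ * m⁻¹ = a⁻¹ * (a * m * a⁻¹ * m⁻¹)⁻¹ * a := by group
    have h2 := hZ a⁻¹ (inv_mem ha) _ (inv_mem ha')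
    rw [h1, h2, inv_mul_cancel_right]
    exact inv_mem ha'

variable {Q Z : Subgroup G} (hZ : ∀ w ∈ Q, ∀ z ∈ Z, w * z = z * w)

theorem mem_CW {m w : G} : w ∈ CW hZ m ↔ w ∈ Q ∧ w * m * w⁻¹ * m⁻¹ ∈ Z := Iff.rfl

theorem CW_le (m : G) : CW hZ m ≤ Q := fun _ hw => hw.1

theorem card_CW (m : G) : Nat.card {x : ↥Q // (x : G) * m * (x : G)⁻¹ * m⁻¹ ∈ Z} = Nat.card ↥(CW hZ m) :=
  Nat.card_congr ⟨fun x => ⟨x.1, x.1.2, x.2⟩, fun x => ⟨⟨x.1, x.2.1⟩, x.2.2⟩, fun _ => rfl, fun _ => rfl⟩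

theorem CW_mul {m m' : G} (hm : ∀ z ∈ Z, m * z = z * m) : CW hZ m ⊓ CW hZ m' ≤ CW hZ (m * m') := by
  rintro w ⟨⟨hw, h1⟩, -, h2⟩
  refine ⟨hw, ?_⟩
  have h3 : w * (m * m') * w⁻¹ * (m * m')⁻¹ = (w * m * w⁻¹ * m⁻¹) * (m * (w * m' * w⁻¹ * m'⁻¹) * m⁻¹) := by group
  rw [h3, hm _ h2, mul_inv_cancel_right]
  exact mul_mem h1 h2

theorem CW_inv_le {m : G} (hm : ∀ z ∈ Z, m * z = z * m) : CW hZ m ≤ CW hZ m⁻¹ := by
  rintro w ⟨hw, h1⟩
  refine ⟨hw, ?_⟩
  have h3 : w * m⁻¹ * w⁻¹ * m⁻¹⁻¹ = m⁻¹ * ((w * m * w⁻¹ * m⁻¹)⁻¹ * m) := by group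
  rw [h3, ← hm _ (inv_mem h1), inv_mul_cancel_left]
  exact inv_mem h1

theorem CW_conj_le {m x : G} (hx : ∀ z ∈ Z, x * z = z * x) (hxQ : ∀ w ∈ Q, x * w * x⁻¹ ∈ Q) :
    (CW hZ m).map (MulAut.conj x).toMonoidHom ≤ CW hZ (x * m * x⁻¹) := by
  rintro _ ⟨w, ⟨hw, h1⟩, rfl⟩
  refine ⟨hxQ w hw, ?_⟩
  show (x * w * x⁻¹) * (x * m * x⁻¹) * (x * w * x⁻¹)⁻¹ * (x * m * x⁻¹)⁻¹ ∈ Z
  have h2 : (x * w * x⁻¹) * (x * m * x⁻¹) * (x * w * x⁻¹)⁻¹ * (x * m * x⁻¹)⁻¹ = x * (w * m * w⁻¹ * m⁻¹) * x⁻¹ := by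
    group
  rw [h2, hx _ h1, mul_inv_cancel_right]
  exact h1

theorem card_CW_conj [Finite G] {m x : G} (hx : ∀ z ∈ Z, x * z = z * x) (hxQ : ∀ w ∈ Q, x * w * x⁻¹ ∈ Q) :
    Nat.card ↥(CW hZ m) ≤ Nat.card ↥(CW hZ (x * m * x⁻¹)) := by
  rw [← card_map_of_injective (f := (MulAut.conj x).toMonoidHom) (MulAut.conj x).injective]
  exact Nat.card_le_card_of_injective _ (inclusion_injective (CW_conj_le hZ hx hxQ))

/-- **`|Q : C(l x l⁻¹ x⁻¹)| ≤ |Q : C(l)|²`** -/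
theorem relIndex_CW_le [Finite G] {l x : G} (hl : ∀ z ∈ Z, l * z = z * l) (hx : ∀ z ∈ Z, x * z = z * x)
    (hxQ : ∀ w ∈ Q, x * w * x⁻¹ ∈ Q) :
    (CW hZ (l * x * l⁻¹ * x⁻¹)).relIndex Q ≤ (CW hZ l).relIndex Q * (CW hZ l).relIndex Q := by
  have hli : ∀ z ∈ Z, l⁻¹ * z = z * l⁻¹ := by
    intro z hz
    have := hl z hz
    calc l⁻¹ * z = l⁻¹ * (z * l) * l⁻¹ := by group
      _ = z * l⁻¹ := by rw [← this]; group
  have h1 : l * x * l⁻¹ * x⁻¹ = l * (x * l⁻¹ * x⁻¹) := by group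
  rw [h1]
  have h2 := relIndex_le_of_le_left (L := Q) (CW_mul hZ (m := l) (m' := x * l⁻¹ * x⁻¹) hl)
    (index_ne_zero_of_finite (H := (CW hZ l ⊓ CW hZ (x * l⁻¹ * x⁻¹)).subgroupOf Q))
  refine h2.trans ((relIndex_inf_le).trans (Nat.mul_le_mul_left _ ?_))
  -- compare by cardinalities
  have h3 : Nat.card ↥(CW hZ l) ≤ Nat.card ↥(CW hZ (x * l⁻¹ * x⁻¹)) :=
    (Nat.card_le_card_of_injective _ (inclusion_injective (CW_inv_le hZ hl))).trans (card_CW_conj hZ hx hxQ)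
  have h4 : ∀ m, (CW hZ m).relIndex Q * Nat.card ↥(CW hZ m) = Nat.card Q := by
    intro m
    have := index_mul_card ((CW hZ m).subgroupOf Q)
    rw [← this]
    congr 1
    exact (Nat.card_congr (subgroupOfEquivOfLe (CW_le hZ m)).toEquiv).symm
  have h5 : (CW hZ (x * l⁻¹ * x⁻¹)).relIndex Q * Nat.card ↥(CW hZ l) ≤ (CW hZ l).relIndex Q * Nat.card ↥(CW hZ l) :=
    calc _ ≤ (CW hZ (x * l⁻¹ * x⁻¹)).relIndex Q * Nat.card ↥(CW hZ (x * l⁻¹ * x⁻¹)) := Nat.mul_le_mul_left _ h3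
      _ = _ := by rw [h4, h4]
  exact Nat.le_of_mul_le_mul_right h5 Nat.card_pos

theorem relIndex_mul_card [Finite G] (m : G) : (CW hZ m).relIndex Q * Nat.card ↥(CW hZ m) = Nat.card Q := by
  have := index_mul_card ((CW hZ m).subgroupOf Q)
  rw [← this]
  congr 1
  exact (Nat.card_congr (subgroupOfEquivOfLe (CW_le hZ m)).toEquiv).symm

end Cfsg.Agent.H351.FR
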