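import Cfsg.Agent.H351.FR.Abs
import Cfsg.Agent.H374.FR.Comm
import Cfsg.Agent.H744.FR.Gen

/-!
# Box (X) of `F₄(q)` (S2452): the scalars of the torus, the reduction to products of two long root elements (helper351)

* `tw μ` : the torus element `h_θ(μ)`: trivial on `MM K`, scalar `μ` on the 14 roots of level one;
* `relIndex_q` : `|Q : CW(l)|` is a power of `q`, `l ∈ MM K`;
* `le_of` : `l ∈ MM K`, `q ^ 5 |CW(m)| ≤ q ^ 15` for all `m = a y a⁻¹ b y' b⁻¹ ≠ 1`, `l` not central in `MM K`: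
  `|CW(l)| ≤ q ^ 12`.
-/

set_option autoImplicit false
set_option linter.unusedSectionVars false

namespace Cfsg.Agent.H351.FR.X

open CoxeterSystem Cfsg.Agent.ChevalleyStructure.CoxeterGeom Cfsg.Agent.Tits.Roots Cfsg.Agent.Tits.Core
  Cfsg.Agent.Tits.Exchange Cfsg.Agent.Nodes.Reps Cfsg.Agent.Nodes.BNOf Cfsg.Agent.Nodes.StabComb
  Cfsg.Agent.Nodes.Bruhat Cfsg.Agent.Nodes.OppDec Cfsg.Agent.Nodes.LeviDec
  Cfsg.Agent.Nodes.RGDChev Cfsg.Agent.KFacts.RgdPar Cfsg.Agent.KFacts.RgdChevCoord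
  Cfsg.Agent.H225.PPow Cfsg.Agent.H701.F43.Cent Cfsg.Agent.H797.FQ Cfsg.Agent.OddHalf.NI.ModelChev
open Cfsg.Lie Cfsg.Agent.ChevalleyStructure Cfsg.Agent.ChevalleyStructure.CoxeterGeomTypes
open Cfsg.Agent.H520.FC (PK VK XT)
open Cfsg.Agent.H351.FR

universe u

variable {K : Type u} [Field K]

/-- the coefficients of `θ^∨` -/
def cth : Fin 4 → ℤ := ![1, 2, 3, 2]

theorem tab_cth : ∀ r < chevF4.nroots, ∑ i : Fin 4, cth i * chevF4.cartan (i : ℕ) r = vec chevF4 4 r 3 := by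
  decide +kernel

theorem tab_lev : ∀ r ∈ L14, r < chevF4.nroots ∧ vec chevF4 4 r 3 = 1 := by decide +kernel

/-- `h_θ(μ)` -/
noncomputable def tw (μ : Kˣ) : ↥(chevF4.group K) := th hF fun i => μ ^ cth i

theorem tw_mem (μ : Kˣ) : tw μ ∈ TT chevF4 K := (thT hF fun i => μ ^ cth i).2

theorem prod_zpow' {ι : Type*} (s : Finset ι) (a : Kˣ) (c : ι → ℤ) : ∏ i ∈ s, a ^ c i = a ^ ∑ i ∈ s, c i := by
  classical
  induction s using Finset.induction_on with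
  | empty => simp
  | insert i s hi ih => rw [Finset.prod_insert hi, Finset.sum_insert hi, ih, zpow_add]

theorem ch_tw (μ : Kˣ) {r : ℕ} (hr : r < chevF4.nroots) :
    ch hF (vec chevF4 4 r) (tw μ) = ((μ ^ vec chevF4 4 r 3 : Kˣ) : K) := by
  have h1 : chH hF hr (thT hF fun i => μ ^ cth i) = ch hF (vec chevF4 4 r) (tw μ) := rfl
  rw [← h1, chH_thT, ← tab_cth r hr]
  have h2 : ∀ i : Fin 4, ((μ ^ cth i : Kˣ) : K) ^ chevF4.cartan (i : ℕ) r =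
      ((μ ^ (cth i * chevF4.cartan (i : ℕ) r) : Kˣ) : K) := by
    intro i
    rw [zpow_mul, ← Units.val_zpow_eq_zpow_val]
  rw [Finset.prod_congr rfl fun i _ => h2 i, ← Units.coe_prod, prod_zpow']

theorem conj_xc (μ : Kˣ) {r : ℕ} (hr : r < chevF4.nroots) (a : K) :
    tw μ * xc hF (vec chevF4 4 r) a * (tw μ)⁻¹ = xc hF (vec chevF4 4 r) (((μ ^ vec chevF4 4 r 3 : Kˣ) : K) * a) := by
  rw [(act hF hr (tw_mem μ)).2 a, ch_tw μ hr]

theorem xc_e {r : ℕ} (hr : r < chevF4.nroots) (a : K) : xc hF (vec chevF4 4 r) a = e r a := Subtype.ext (coe_xc hF hr a)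

theorem conj_e (μ : Kˣ) {r : ℕ} (hr : r ∈ L14) (a : K) : tw μ * e r a * (tw μ)⁻¹ = e r ((μ : K) * a) := by
  have h1 := conj_xc μ (tab_lev r hr).1 a
  rwa [xc_e (tab_lev r hr).1, xc_e (tab_lev r hr).1, (tab_lev r hr).2, zpow_one] at h1

theorem tw_comm (μ : Kˣ) : ∀ m ∈ MM K, tw μ * m = m * tw μ := by
  have h1 : MM K ≤ Subgroup.centralizer ({tw μ} : Set ↥(chevF4.group K)) := by
    refine RGD.Sup_le fun x hx => ?_
    obtain ⟨r, hr, rfl⟩ := mem_RootsJ_iff.1 hx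
    intro y hy
    obtain ⟨a, rfl⟩ := (mem_XX_vec hF (lt_idxM r hr)).1 hy
    rw [Subgroup.mem_centralizer_singleton_iff]
    have h2 := conj_xc μ (lt_idxM r hr) a
    rw [xc_e (lt_idxM r hr), (tabM r (lt_idxM r hr)).2 hr, zpow_zero, Units.val_one, one_mul,
      xc_e (lt_idxM r hr), mul_inv_eq_iff_eq_mul] at h2
    first
      | exact h2
      | exact h2.symm
  intro m hm
  have h2 := Subgroup.mem_centralizer_singleton_iff.1 (h1 hm)
  first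
    | exact h2
    | exact h2.symm

variable [Finite K]

theorem hZ : ∀ w ∈ VV K, ∀ z ∈ XT K, w * z = z * w := fun _ hw _ hz => comm_theta (Subgroup.mem_sup_left hw) hz

theorem hZM : ∀ w ∈ MM K, ∀ z ∈ XT K, w * z = z * w := fun _ hw _ hz => comm_theta (Subgroup.mem_sup_right hw) hz

theorem XT_le : XT K ≤ VV K := fun _ hz => by
  obtain ⟨t, rfl⟩ := (mem_XX_vec hF (by rw [nroots]; norm_num)).1 hz
  exact e_mem_VV (by decide) t

theorem conj_VV {m x : ↥(chevF4.group K)} (hm : m ∈ MM K) (hx : x ∈ VV K) : m * x * m⁻¹ ∈ VV K := by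
  obtain ⟨p, hpc⟩ := CharP.exists K
  have : Fact p.Prime := ⟨CharP.char_is_prime K p⟩
  exact (Subgroup.mem_normalizer_iff.1 (MM_le_normalizer (K := K) (p := p) hm) x).1 hx

theorem tw_VV (μ : Kˣ) {x : ↥(chevF4.group K)} (hx : x ∈ VV K) : tw μ * x * (tw μ)⁻¹ ∈ VV K := by
  obtain ⟨p, hpc⟩ := CharP.exists K
  have : Fact p.Prime := ⟨CharP.char_is_prime K p⟩
  exact (Subgroup.mem_normalizer_iff.1 (TT_le_normalizer (K := K) (p := p) (tw_mem μ)) x).1 hx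

theorem tw_XT (μ : Kˣ) {z : ↥(chevF4.group K)} (hz : z ∈ XT K) : tw μ * z * (tw μ)⁻¹ ∈ XT K := by
  have h47 : 47 < chevF4.nroots := by rw [nroots]; norm_num
  obtain ⟨t, rfl⟩ := (mem_XX_vec hF h47).1 hz
  have h1 := conj_xc μ h47 t
  rw [xc_e h47, xc_e h47] at h1
  exact (mem_XX_vec hF h47).2 ⟨_, h1.symm⟩

theorem gen : VV K ≤ XT K ⊔ ⨆ i : ↥L14.toFinset, Subgroup.closure (Set.range (e (K := K) (i : ℕ))) := by
  intro u hu
  obtain ⟨c, b, rfl⟩ := exists_R hu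
  refine mul_mem ?_ (Subgroup.mem_sup_left ((mem_XX_vec hF (by rw [nroots]; norm_num)).2 ⟨b, rfl⟩))
  refine Subgroup.mem_sup_right (list_prod_mem ?_)
  intro x hx
  obtain ⟨s, hs, rfl⟩ := List.mem_map.1 hx
  exact (le_iSup (fun i : ↥L14.toFinset => Subgroup.closure (Set.range (e (K := K) (i : ℕ)))) ⟨s, List.mem_toFinset.2 hs⟩)
    (Subgroup.subset_closure ⟨_, rfl⟩)

theorem relIndex_q {l : ↥(chevF4.group K)} (hl : l ∈ MM K) : ∃ k, (CW (hZ (K := K)) l).relIndex (VV K) = Nat.card K ^ k := by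
  classical
  refine relIndex_pow (K := K) (ι := ↥L14.toFinset) (Z := XT K) XT_le
    (fun a ha b hb => Cfsg.Agent.H374.FR.Comm.com' a ha b hb) hZ (fun i a => e (i : ℕ) a)
    (fun i a => e_mem_VV (L14_sub _ (List.mem_toFinset.1 i.2)) a) (fun i a b => ex_add hF _ a b) gen tw
    (fun μ i a => conj_e μ (List.mem_toFinset.1 i.2) a) (fun μ z hz => tw_VV μ hz) (fun μ z hz => tw_XT μ hz) ?_ ?_
  · intro z hz
    refine ⟨XT_le hz, ?_⟩
    have h1 : z * l * z⁻¹ * l⁻¹ = 1 := by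
      rw [← hZM l hl z hz]
      group
    rw [h1]
    exact one_mem _
  · rintro μ w ⟨hw, h1⟩
    refine ⟨tw_VV μ hw, ?_⟩
    have h2 : tw μ * w * (tw μ)⁻¹ * l * (tw μ * w * (tw μ)⁻¹)⁻¹ * l⁻¹ = tw μ * (w * l * w⁻¹ * l⁻¹) * (tw μ)⁻¹ := by
      have h3 := tw_comm μ l hl
      have h4 : (tw μ)⁻¹ * l = l * (tw μ)⁻¹ := by
        calc (tw μ)⁻¹ * l = (tw μ)⁻¹ * (l * tw μ) * (tw μ)⁻¹ := by group
          _ = l * (tw μ)⁻¹ := by rw [← h3]; group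
      have h5 : (tw μ)⁻¹ * l⁻¹ = l⁻¹ * (tw μ)⁻¹ := by
        calc (tw μ)⁻¹ * l⁻¹ = (l * tw μ)⁻¹ := by group
          _ = l⁻¹ * (tw μ)⁻¹ := by rw [← h3]; group
      calc tw μ * w * (tw μ)⁻¹ * l * (tw μ * w * (tw μ)⁻¹)⁻¹ * l⁻¹
          = tw μ * w * ((tw μ)⁻¹ * l) * tw μ * w⁻¹ * ((tw μ)⁻¹ * l⁻¹) := by group
        _ = tw μ * (w * l * w⁻¹ * l⁻¹) * (tw μ)⁻¹ := by rw [h4, h5]; group
    rw [h2]
    exact tw_XT μ h1

/-- the statement of helper296, helper7 -/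
def CardTwo (K : Type u) [Field K] : Prop :=
  ∀ a ∈ MM K, ∀ b ∈ MM K, ∀ y ∈ XX chevF4 4 K (sr 2), ∀ y' ∈ XX chevF4 4 K (sr 2),
    (a * y * a⁻¹) * (b * y' * b⁻¹) ≠ 1 →
    Nat.card K ^ 5 * Nat.card {x : ↥(VV K) // (x : ↥(chevF4.group K)) * ((a * y * a⁻¹) * (b * y' * b⁻¹)) *
      (x : ↥(chevF4.group K))⁻¹ * ((a * y * a⁻¹) * (b * y' * b⁻¹))⁻¹ ∈ XT K} ≤ Nat.card K ^ 15

theorem le_of (H : CardTwo K) (h3 : 3 ≤ Nat.card K) {l : ↥(chevF4.group K)} (hl : l ∈ MM K)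
    (hne : ∃ m ∈ MM K, m * l ≠ l * m) : Nat.card ↥(CW (hZ (K := K)) l) ≤ Nat.card K ^ 12 := by
  obtain ⟨m, hm, y, hy, hxy⟩ := Cfsg.Agent.H744.FR.exists_x h3 hne
  have hyM : y ∈ MM K := by
    refine RGD.le_Sup ?_ hy
    rw [mem_RootsJ]
    exact ⟨isRoot_sr _ _ 2, sr_ne (by decide)⟩
  set x := m * y * m⁻¹ with hx
  have hxM : x ∈ MM K := mul_mem (mul_mem hm hyM) (inv_mem hm)
  have h1 : l * x * l⁻¹ * x⁻¹ = ((l * m) * y * (l * m)⁻¹) * (m * y⁻¹ * m⁻¹) := by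
    rw [hx]
    group
  have h2 : l * x * l⁻¹ * x⁻¹ ≠ 1 := by
    intro h4
    apply hxy
    calc l * x = (l * x * l⁻¹ * x⁻¹) * (x * l) := by group
      _ = x * l := by rw [h4, one_mul]
  have h4 := H (l * m) (mul_mem hl hm) m hm y hy y⁻¹ (inv_mem hy) (by rw [← h1]; exact h2)
  rw [← h1, card_CW (hZ (K := K))] at h4
  have h5 := relIndex_CW_le (hZ (K := K)) (l := l) (x := x) (hZM l hl) (hZM x hxM) fun w hw => conj_VV hxM hw
  have h6 := relIndex_mul_card (hZ (K := K)) (l * x * l⁻¹ * x⁻¹)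
  have h7 := relIndex_mul_card (hZ (K := K)) l
  rw [card_VV] at h6 h7
  obtain ⟨k, hk⟩ := relIndex_q hl
  rw [hk] at h5 h7
  have hq : 1 < Nat.card K := by omega
  have hc : 0 < Nat.card ↥(CW (hZ (K := K)) (l * x * l⁻¹ * x⁻¹)) := Nat.card_pos
  have h8 : Nat.card K ^ 5 ≤ Nat.card K ^ (k + k) := by
    rw [pow_add]
    refine le_trans ?_ h5
    refine Nat.le_of_mul_le_mul_right ?_ hc
    rw [h6]
    exact h4
  have h9 : 5 ≤ k + k := (Nat.pow_le_pow_iff_right hq).1 h8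
  have h10 : k ≤ 15 := by
    refine (Nat.pow_le_pow_iff_right hq).1 ?_
    rw [← h7]
    exact Nat.le_mul_of_pos_right _ Nat.card_pos
  have h11 : Nat.card ↥(CW (hZ (K := K)) l) = Nat.card K ^ (15 - k) := by
    refine Nat.eq_of_mul_eq_mul_left (pow_pos (by omega : 0 < Nat.card K) k) ?_
    rw [h7, ← pow_add]
    congr 1
    omega
  rw [h11]
  exact Nat.pow_le_pow_right (by omega) (by omega)

/-- the statement of helper744 -/
def Central (K : Type u) [Field K] : Prop :=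
  ∀ l ∈ MM K, l ≠ 1 → (∀ m ∈ MM K, m * l = l * m) →
    Nat.card {x : ↥(VV K) // (x : ↥(chevF4.group K)) * l * (x : ↥(chevF4.group K))⁻¹ * l⁻¹ ∈ XT K} ≤ Nat.card K ^ 12

/-- **Box (X).** -/
theorem x_box_of (H : CardTwo K) (H' : Central K) (h3 : 3 ≤ Nat.card K) {g : ↥(chevF4.group K)}
    (hg : g ∈ VV K ⊔ MM K) (hgQ : g ∉ VV K) :
    Nat.card {x : ↥(VV K) // (x : ↥(chevF4.group K)) * g * (x : ↥(chevF4.group K))⁻¹ * g⁻¹ ∈ XT K} ≤
      Nat.card K ^ 12 := by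
  obtain ⟨p, hpc⟩ := CharP.exists K
  have : Fact p.Prime := ⟨CharP.char_is_prime K p⟩
  have hg3 : g ∈ ((VV K ⊔ MM K : Subgroup ↥(chevF4.group K)) : Set ↥(chevF4.group K)) := hg
  rw [Subgroup.coe_mul_of_right_le_normalizer_left _ _ (MM_le_normalizer p), Set.mem_mul] at hg3
  obtain ⟨v, hv, l, hl, rfl⟩ := hg3
  have hv' : v ∈ VV K := hv
  have hl' : l ∈ MM K := hl
  have hl1 : l ≠ 1 := by
    rintro rfl
    exact hgQ (by rwa [mul_one])
  have hl2 : Nat.card ↥(CW (hZ (K := K)) l) ≤ Nat.card K ^ 12 := by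
    by_cases h : ∀ m ∈ MM K, m * l = l * m
    · have := H' l hl' hl1 h
      rwa [card_CW (hZ (K := K))] at this
    · push Not at h
      exact le_of H h3 hl' h
  rw [card_CW (hZ (K := K))]
  refine le_trans (Nat.card_le_card_of_injective _ (Subgroup.inclusion_injective ?_)) hl2
  rintro w ⟨hw, h1⟩
  refine ⟨hw, ?_⟩
  have h4 := Cfsg.Agent.H374.FR.Comm.com' w hw v hv'
  have h2 : w * (v * l) * w⁻¹ * (v * l)⁻¹ = (w * v * w⁻¹ * v⁻¹) * (v * (w * l * w⁻¹ * l⁻¹) * v⁻¹) := by group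
  rw [h2] at h1
  have h5 := mul_mem (inv_mem h4) h1
  rw [inv_mul_cancel_left] at h5
  have h6 : w * l * w⁻¹ * l⁻¹ = v⁻¹ * (v * (w * l * w⁻¹ * l⁻¹) * v⁻¹) * v := by group
  rw [h6, hZ v⁻¹ (inv_mem hv') _ h5, inv_mul_cancel_right]
  exact h5

end Cfsg.Agent.H351.FR.X
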